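import Cfsg.Agent.H595.Weak.TwelvePts
import Cfsg.Agent.H595.Weak.Four
import Cfsg.Agent.H509.WeakBlock
import Cfsg.Agent.H287.Blk.MTw
import Cfsg.Agent.H729.NFM12
import Cfsg.Agent.CoThreeStd.M12.Out

/-!
# S4095, `p = 2`: the row of the Mathieu group `M12` (helper595)
-/

set_option autoImplicit false
set_option maxRecDepth 100000

namespace Cfsg.Agent.H595.MTwelveWeak

open Subgroup Cfsg Cfsg.Agent.H516 Cfsg.Agent.H509.Weak Cfsg.Agent.H595.TwelvePts

universe u

/-! ### general facts -/

/-- two commuting involutions generate a group of order four -/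
theorem exists_four {G : Type*} [Group G] {y s : G} (hy : orderOf y = 2) (hs : orderOf s = 2) (hc : y * s = s * y)
    (hys : y ≠ s) : ∃ S : Subgroup G, Nat.card S = 4 ∧ ∀ K : Subgroup G, y ∈ K → s ∈ K → S ≤ K := by
  have comm : ∀ (m : zpowers y) (n : zpowers s), Commute ((zpowers y).subtype m) ((zpowers s).subtype n) := by
    rintro ⟨_, i, rfl⟩ ⟨_, j, rfl⟩
    exact (show Commute y s from hc).zpow_zpow i j
  let f := MonoidHom.noncommCoprod (zpowers y).subtype (zpowers s).subtype comm
  have hf : Function.Injective f := by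
    rw [MonoidHom.noncommCoprod_injective]
    refine ⟨Subtype.val_injective, Subtype.val_injective, ?_⟩
    rw [Subgroup.range_subtype, Subgroup.range_subtype, disjoint_iff, eq_bot_iff]
    intro z hz
    obtain ⟨h1, h2⟩ := mem_inf.1 hz
    have two : ∀ {u v : G}, orderOf u = 2 → v ∈ zpowers u → v = 1 ∨ v = u := by
      intro u v hu hv
      obtain ⟨i, hi⟩ := hv
      have hu2 : u ^ (2 : ℤ) = 1 := by
        have h5 := pow_orderOf_eq_one u
        rw [hu] at h5
        exact_mod_cast h5
      rcases Int.even_or_odd' i with ⟨k, hk | hk⟩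
      · left
        rw [← hi]
        change u ^ i = 1
        rw [hk, zpow_mul, hu2, one_zpow]
      · right
        rw [← hi]
        change u ^ i = u
        rw [hk, zpow_add, zpow_mul, hu2, one_zpow, one_mul, zpow_one]
    rw [mem_bot]
    rcases two hy h1 with h | h
    · exact h
    · rcases two hs h2 with h' | h'
      · exact h'
      · exact absurd (h.symm.trans h') hys
  refine ⟨f.range, ?_, ?_⟩
  · rw [← Nat.card_congr (MonoidHom.ofInjective hf).toEquiv, Nat.card_prod, Nat.card_zpowers, Nat.card_zpowers, hy, hs]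
  · intro K hyK hsK
    rintro _ ⟨⟨a, b⟩, rfl⟩
    exact mul_mem ((zpowers_le.2 hyK) a.2) ((zpowers_le.2 hsK) b.2)

/-- the centralizer of an element of order three is divisible by nine -/
theorem nine_dvd {G : Type*} [Group G] [Finite G] (h27 : 27 ∣ Nat.card G) {x : G} (hx : orderOf x = 3) :
    9 ∣ Nat.card (centralizer ({x} : Set G)) := by
  have h3 : Fact (Nat.Prime 3) := ⟨Nat.prime_three⟩
  have hx3 : x ^ 3 = 1 := by rw [← hx]; exact pow_orderOf_eq_one x
  have hzp : IsPGroup 3 (zpowers x) := IsPGroup.of_card (n := 1) (by rw [Nat.card_zpowers, hx, pow_one])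
  obtain ⟨P, hP⟩ := hzp.exists_le_sylow
  have hxP : x ∈ (P : Subgroup G) := hP (mem_zpowers x)
  have hPc : 27 ∣ Nat.card P := by
    have := P.pow_dvd_card_of_pow_dvd_card (n := 3) (by simpa using h27)
    simpa using this
  set K := centralizer ({x} : Set G) ⊓ (P : Subgroup G) with hK
  have hKp : IsPGroup 3 K := P.2.to_le inf_le_right
  obtain ⟨k, hk⟩ := IsPGroup.iff_card.1 hKp
  have hxK : x ∈ K := mem_inf.2 ⟨mem_centralizer_singleton_iff.2 rfl, hxP⟩
  have hk2 : 2 ≤ k := by
    by_contra hcon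
    push Not at hcon
    have hle : zpowers x ≤ K := zpowers_le.2 hxK
    have hcard : Nat.card K ≤ 3 := by
      rw [hk]
      have : k = 0 ∨ k = 1 := by omega
      rcases this with rfl | rfl <;> norm_num
    have hKe : zpowers x = K := eq_of_le_of_card_ge hle (by rw [Nat.card_zpowers, hx]; exact hcard)
    have hnt : Nontrivial P := by
      rw [← Finite.one_lt_card_iff_nontrivial]
      have := Nat.le_of_dvd Nat.card_pos hPc
      omega
    have hcn := P.2.center_nontrivial
    obtain ⟨z, hz⟩ := exists_ne (1 : Subgroup.center P)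
    have hzc := mem_center_iff.1 z.2
    have hzK : ((z : P) : G) ∈ K := by
      refine mem_inf.2 ⟨mem_centralizer_singleton_iff.2 ?_, (z : P).2⟩
      exact (congrArg Subtype.val (hzc ⟨x, hxP⟩)).symm
    rw [← hKe] at hzK
    have hz1 : ((z : P) : G) ≠ 1 := by
      intro h
      exact hz (Subtype.ext (Subtype.ext h))
    have hzz : zpowers ((z : P) : G) = zpowers x := by
      apply eq_of_le_of_card_ge (zpowers_le.2 hzK)
      rw [Nat.card_zpowers, Nat.card_zpowers, hx]
      have h5 : orderOf ((z : P) : G) ∣ 3 := by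
        have := orderOf_dvd_natCard (⟨_, hzK⟩ : zpowers x)
        rwa [← Subgroup.orderOf_coe, Nat.card_zpowers, hx] at this
      rcases (Nat.dvd_prime Nat.prime_three).1 h5 with h6 | h6
      · exact absurd (orderOf_eq_one_iff.1 h6) hz1
      · exact h6.ge
    obtain ⟨j, hj⟩ : x ∈ zpowers ((z : P) : G) := by rw [hzz]; exact mem_zpowers x
    have hPK : (P : Subgroup G) ≤ K := by
      intro g hg
      refine mem_inf.2 ⟨mem_centralizer_singleton_iff.2 ?_, hg⟩
      have h6 : Commute g ((z : P) : G) := congrArg Subtype.val (hzc ⟨g, hg⟩)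
      have h7 := (h6.zpow_right j).eq
      change ((z : P) : G) ^ j = x at hj
      rwa [hj] at h7
    have := Subgroup.card_le_of_le hPK
    have h8 := Nat.le_of_dvd Nat.card_pos hPc
    omega
  have h9 : 9 ∣ Nat.card K := by
    rw [hk, show 9 = 3 ^ 2 by norm_num]
    exact pow_dvd_pow 3 hk2
  exact h9.trans (Subgroup.card_dvd_of_le inf_le_left)

/-! ### the centralizer of a fixed point free element of order three -/

theorem card_cent {G : Type*} [Group G] [Finite G] {w : G} (hw : orderOf w = 3)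
    {ψ : centralizer ({w} : Set G) →* Equiv.Perm (Fin 4)} (hker : ∀ g, ψ g = 1 ↔ (g : G) ∈ zpowers w) :
    Nat.card (centralizer ({w} : Set G)) = 3 * Nat.card ψ.range := by
  have h1 : ψ.ker = (zpowers w).subgroupOf (centralizer ({w} : Set G)) := by
    ext g
    rw [MonoidHom.mem_ker, hker, mem_subgroupOf]
  have hle : zpowers w ≤ centralizer ({w} : Set G) := by
    rw [zpowers_le]
    exact mem_centralizer_singleton_iff.2 rfl
  have h2 : Nat.card ψ.ker = 3 := by
    rw [h1, Nat.card_congr (subgroupOfEquivOfLe hle).toEquiv, Nat.card_zpowers, hw]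
  have h3 := ψ.ker.card_mul_index
  rw [h2, Subgroup.index_ker] at h3
  exact h3.symm

/-! ### the permutation representation -/

section

variable {L : Type u} [Group L] [Finite L]

/-- the permutation representation on twelve points -/
noncomputable def rep (e : L ≃* Spor.M12) : L →* Equiv.Perm (Fin 12) :=
  (CoThreeStd.M12.G12.subtype.comp CoThreeStd.M12.equiv.toMonoidHom).comp e.toMonoidHom

theorem rep_fix (e : L ≃* Spor.M12) : Fix5 (rep e) := by
  intro g s hs h
  have h1 := CoThreeStd.M12.Out.fix_five (CoThreeStd.M12.equiv (e g)).2 s hs h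
  apply e.injective
  apply CoThreeStd.M12.equiv.injective
  rw [map_one, map_one]
  exact Subtype.ext h1

theorem card_le {φ : L →* Equiv.Perm (Fin 12)} (hφ : Fix5 φ) {w : L} (hw : (orderOf w).Prime) (hw2 : orderOf w ≠ 2) :
    Nat.card (centralizer ({w} : Set L)) < 55 := by
  have hw1 : w ≠ 1 := by
    rintro rfl
    rw [orderOf_one] at hw
    exact Nat.not_prime_one hw
  by_cases h5 : 5 ≤ orderOf w
  · have := card_le_of_five hφ hw h5 rfl
    omega
  · have h3 : orderOf w = 3 := by
      have h2 := hw.two_le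
      have h4 : orderOf w ≠ 4 := by
        intro h
        rw [h] at hw
        norm_num at hw
      omega
    have hwq : w ^ 3 = 1 := by rw [← h3]; exact pow_orderOf_eq_one w
    by_cases hno : ∀ z, φ w z ≠ z
    · obtain ⟨ψ, hk, hs⟩ := exists_psi hφ hwq hno
      rw [card_cent h3 hk]
      have := card_le_twelve (R := ψ.range) (by
        rintro ⟨g, hg⟩
        exact hs g hg)
      omega
    · push Not at hno
      obtain ⟨z, hz⟩ := hno
      have := card_le_of_fix hφ hw1 hwq hz
      omega

/-- a subgroup of order 55 -/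
theorem exists_55 [IsSimpleGroup L] (h : Spor.IsoM12 L) : ∃ Q : Subgroup L, Nat.card Q = 55 := by
  have hN := NotCT.Orders.m12 h
  have n11 := Cfsg.Agent.H393.Iso.na_m12 h
  have h11 : Fact (Nat.Prime 11) := ⟨by norm_num⟩
  obtain ⟨v, hv⟩ := exists_prime_orderOf_dvd_card' (G := L) 11 (by rw [hN]; norm_num)
  obtain ⟨c, k, hC, hcard, hc, hk, hk1, hi, -⟩ := Cfsg.Agent.H149.Sp.Eng.single (s := 11) (by norm_num)
    (by rw [hN]; norm_num) (by rw [hN]; norm_num) n11 hv
  have h1 : c * k * (Cfsg.Agent.H149.Sp.Eng.Nm v).index = 8640 := by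
    have h2 := (Cfsg.Agent.H149.Sp.Eng.Nm v).card_mul_index
    rw [hcard, hN] at h2
    apply Nat.eq_of_mul_eq_mul_left (show 0 < 11 by norm_num)
    rw [← mul_assoc, ← mul_assoc, h2]
  have hk' : k ∈ [2, 5, 10] := Cfsg.Agent.H149.Sp.Eng.okKs_spec (s := 11) (by decide) (by norm_num) hk hk1
  have h3 := Cfsg.Agent.H149.Sp.Eng.okPair_spec (L := [(3, 3), (5, 1)]) (a := 6) (ks := [2, 5, 10]) (m := 11)
    (bad := fun c => c == 1)
    (by simp; norm_num) (by decide +kernel) (by norm_num) (by decide +kernel) hc hk' h1 hi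
  have hc1 : c = 1 := by simpa using h3
  subst hc1
  have hk5 : k = 5 := by
    simp only [List.mem_cons, List.not_mem_nil, or_false] at hk'
    rcases hk' with rfl | rfl | rfl
    · exfalso; omega
    · rfl
    · exfalso; omega
  subst hk5
  exact ⟨Cfsg.Agent.H149.Sp.Eng.Nm v, hcard⟩

theorem factA (h : Spor.IsoM12 L) (hs : IsSimpleGroup L) : FactA L := by
  obtain ⟨Q, hQ⟩ := exists_55 h
  obtain ⟨e⟩ := h
  refine ⟨Q, by rw [hQ]; decide, fun w hw hw2 => Or.inr ?_⟩
  rw [hQ]
  exact card_le (rep_fix e) hw hw2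

/-! ### the elements of order three with centralizer `3 × A₄` -/

/-- order three, and `36 ∣ |C(y)|` -/
theorem exists_psi_of_dvd {φ : L →* Equiv.Perm (Fin 12)} (hφ : Fix5 φ) {y : L} (hy : orderOf y = 3)
    (h36 : 36 ∣ Nat.card (centralizer ({y} : Set L))) :
    ∃ ψ : centralizer ({y} : Set L) →* Equiv.Perm (Fin 4), (∀ g, ψ g = 1 ↔ (g : L) ∈ zpowers y) ∧
      ψ.range = alternatingGroup (Fin 4) := by
  have hy1 : y ≠ 1 := by
    rintro rfl
    rw [orderOf_one] at hy
    omega
  have hy3 : y ^ 3 = 1 := by rw [← hy]; exact pow_orderOf_eq_one y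
  have h2 : Fact (Nat.Prime 2) := ⟨Nat.prime_two⟩
  obtain ⟨S, hS⟩ := Sylow.exists_subgroup_card_pow_prime (G := centralizer ({y} : Set L)) 2 (n := 2)
    ((show 2 ^ 2 ∣ 36 by norm_num).trans h36)
  have hno : ∀ z, φ y z ≠ z := no_fix_of_four hφ hy1 hy3 (S := S.map (centralizer ({y} : Set L)).subtype)
    (by rw [Subgroup.card_map_of_injective Subtype.val_injective, hS]; norm_num) (by
      rintro _ ⟨g, -, rfl⟩
      exact g.2)
  obtain ⟨ψ, hk, hs⟩ := exists_psi hφ hy3 hno
  refine ⟨ψ, hk, ?_⟩
  apply eq_alt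
  · rintro ⟨g, hg⟩
    exact hs g hg
  · rw [card_cent hy hk] at h36
    exact Nat.dvd_of_mul_dvd_mul_left (show 0 < 3 by norm_num) (by simpa using h36)

/-- **a bad automorphism of 2-power order does not fix such an element** -/
theorem no_fix {a : MulAut L} (W : Wk a) {n : ℕ} (ha : a ^ 2 ^ n = 1) {φ : L →* Equiv.Perm (Fin 12)} (hφ : Fix5 φ)
    {y : L} (hy : orderOf y = 3) (h36 : 36 ∣ Nat.card (centralizer ({y} : Set L))) (hay : a y = y) : False := by
  have hc := W.center
  have hy3 : y ^ 3 = 1 := by rw [← hy]; exact pow_orderOf_eq_one y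
  obtain ⟨ψ, hk, hR⟩ := exists_psi_of_dvd hφ hy h36
  obtain ⟨s, hs⟩ := W.sq a
  have hsq : ∀ c : L, a (a c) = s * c * s⁻¹ := by
    intro c
    change (a * a) c = _
    rw [hs, MulAut.conj_apply]
  have hsC : s ∈ centralizer ({y} : Set L) := by
    rw [mem_centralizer_singleton_iff]
    have h1 := hsq y
    rw [hay, hay] at h1
    exact (mul_inv_eq_iff_eq_mul.1 h1.symm)
  have has : a s = s := by
    apply conj_injective hc
    rw [← aut_conj, ← hs]
    group
  have hs2 : s ^ 2 ^ n = 1 := by
    apply conj_injective hc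
    rw [map_pow, ← hs, map_one, ← pow_two, ← pow_mul, mul_comm, pow_mul, ha, one_pow]
  let A : centralizer ({y} : Set L) →* centralizer ({y} : Set L) :=
    (a.toMonoidHom.comp (centralizer ({y} : Set L)).subtype).codRestrict _ (by
      intro g
      change a (g : L) ∈ _
      rw [mem_centralizer_singleton_iff]
      have h1 := congrArg a (mem_centralizer_singleton_iff.1 g.2)
      rwa [map_mul, map_mul, hay] at h1)
  have hA : ∀ g, (A g : L) = a (g : L) := fun _ => rfl
  have h1 : (⟨s, hsC⟩ : centralizer ({y} : Set L)) = 1 := by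
    refine eq_one_of_four (x := ⟨y, mem_centralizer_singleton_iff.2 rfl⟩) (n := n) ?_ ψ hR ?_ A ?_ ?_ ?_ ?_ ?_
    · exact Subtype.ext hy3
    · intro g
      rw [hk]
      constructor
      · rintro ⟨i, hi⟩
        exact ⟨i, Subtype.ext hi⟩
      · rintro ⟨i, hi⟩
        exact ⟨i, congrArg Subtype.val hi⟩
    · exact Subtype.ext hay
    · intro c
      rcases W.bad (c : L) with h | h
      · left
        exact Subtype.ext h
      · right
        rw [← Subgroup.orderOf_coe]
        exact h
    · exact Subtype.ext has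
    · intro c
      exact Subtype.ext (hsq (c : L))
    · exact Subtype.ext hs2
  have h2 : s = 1 := congrArg Subtype.val h1
  rw [h2, map_one] at hs
  exact W.sq_ne_one hs

end

/-! ### the element in the model -/

open Cfsg.Agent.H287.Blk.MTw Cfsg.Agent.CoThreeStd.MTwelve in
theorem dvd_36 : 36 ∣ Nat.card (centralizer ({Cfsg.Agent.H287.Blk.MTw.x} : Set Spor.M12)) := by
  have hfin : Finite Spor.M12 := Nat.finite_of_card_ne_zero (by
    rw [MTwelveType.SylowModel.card_M12]; norm_num)
  have h9 := nine_dvd (G := Spor.M12) (by rw [MTwelveType.SylowModel.card_M12]; norm_num) Cfsg.Agent.H287.Blk.MTw.orderOf_x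
  have hs1 : s ≠ 1 := by
    intro h
    rw [← w_s] at h
    have h1 := w_injective (h.trans (map_one w).symm)
    exact absurd h1 (by decide)
  have hy1 : y ≠ 1 := by
    have := y_ne_w 1
    rwa [map_one] at this
  have hys : y ≠ s := by
    rw [← w_s]
    exact y_ne_w _
  obtain ⟨S, hS, hle⟩ := exists_four (y := y) (s := s) (orderOf_eq_prime y_sq' hy1)
    (orderOf_eq_prime (by rw [pow_two]; exact s_sq) hs1) ys_comm hys
  have h4 : 4 ∣ Nat.card (centralizer ({Cfsg.Agent.H287.Blk.MTw.x} : Set Spor.M12)) := by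
    rw [← hS]
    apply Subgroup.card_dvd_of_le
    apply hle
    · rw [mem_centralizer_singleton_iff]
      exact y_comm _
    · rw [mem_centralizer_singleton_iff, ← w_s]
      unfold Cfsg.Agent.H287.Blk.MTw.x
      rw [← map_mul, ← map_mul, c3_comm]
  exact Nat.Coprime.mul_dvd_of_dvd_of_dvd (show Nat.Coprime 4 9 by norm_num) h4 h9

/-- **the row of `M12`** -/
theorem row {L : Type u} [Group L] [Finite L] (h : Cfsg.Spor.IsoM12 L) (B : Cfsg.Agent.H509.Weak.Base L) :
    Cfsg.Agent.H516.Row 2 L := by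
  classical
  rw [row_iff]
  intro a ha
  by_contra hne
  have W : Wk a := { B with bad := ha, ne := hne }
  obtain ⟨n, hn⟩ := W.two_of_factA (factA h B.simple)
  obtain ⟨e⟩ := h
  obtain ⟨M, hM⟩ := Cfsg.Agent.H652.Four.exists_two_modular
  have hx : orderOf (e.symm Cfsg.Agent.H287.Blk.MTw.x) = 3 := by
    rw [MulEquiv.orderOf_eq, Cfsg.Agent.H287.Blk.MTw.orderOf_x]
  let Y : Set L := {z | ∃ β : MulAut L, β (e.symm Cfsg.Agent.H287.Blk.MTw.x) = z}
  have hY : ∀ β : MulAut L, ∀ y ∈ Y, β y ∈ Y := by
    rintro β _ ⟨γ, rfl⟩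
    exact ⟨β * γ, rfl⟩
  have hgood : H287.Blk.Good 3 (e.symm Cfsg.Agent.H287.Blk.MTw.x) := by
    apply H287.Blk.Good.congr e
    rw [e.apply_symm_apply]
    exact Cfsg.Agent.H287.Blk.MTw.good
  have hord : ∀ z ∈ Y, orderOf z = 3 := by
    rintro _ ⟨γ, rfl⟩
    rw [MulEquiv.orderOf_eq, hx]
  have hN : H652.Four.NN M (ind Y) := by
    apply hgood M hM
    refine ⟨?_, ?_, ?_, ?_⟩
    · intro g y
      by_cases hy : y ∈ Y
      · rw [ind_pos hy]
        exact ind_pos (hY (MulAut.conj g) y hy)
      · rw [ind_neg hy]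
        apply ind_neg
        intro h1
        apply hy
        have h2 := hY (MulAut.conj g)⁻¹ _ h1
        have h3 : (MulAut.conj g)⁻¹ (g * y * g⁻¹) = y := by
          rw [← MulAut.conj_apply]
          exact (MulAut.conj g).symm_apply_apply y
        rwa [h3] at h2
    · intro g
      by_cases hg : g ∈ Y
      · rw [ind_pos hg]
        simpa using Blocks.LocalRing.memLocalRing_natCast hM 1
      · rw [ind_neg hg]
        simpa using Blocks.LocalRing.memLocalRing_natCast hM 0
    · intro g hg
      apply hord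
      by_contra h
      exact hg (ind_neg h)
    · rw [ind_pos (show e.symm Cfsg.Agent.H287.Blk.MTw.x ∈ Y from ⟨1, rfl⟩)]
      intro h1
      have h2 : MemLocalIdeal M ((1 : ℕ) : ℂ) := by simpa using h1
      rw [Blocks.LocalRing.memLocalIdeal_natCast_iff hM] at h2
      omega
  obtain ⟨y, hy, hay⟩ := W.exists_fix_of_nn hn hY hM hN
  refine no_fix W hn (rep_fix e) (hord y hy) ?_ hay
  obtain ⟨γ, rfl⟩ := hy
  rw [← Nat.card_congr (centEquiv γ (e.symm Cfsg.Agent.H287.Blk.MTw.x)).toEquiv]
  have h1 : Nat.card (centralizer ({e.symm Cfsg.Agent.H287.Blk.MTw.x} : Set L)) =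
      Nat.card (centralizer ({Cfsg.Agent.H287.Blk.MTw.x} : Set Spor.M12)) := by
    refine Nat.card_congr ⟨fun g => ⟨e g, ?_⟩, fun g => ⟨e.symm g, ?_⟩, fun g => Subtype.ext (e.symm_apply_apply _),
      fun g => Subtype.ext (e.apply_symm_apply _)⟩
    · rw [mem_centralizer_singleton_iff]
      have h2 := congrArg e (mem_centralizer_singleton_iff.1 g.2)
      rwa [map_mul, map_mul, e.apply_symm_apply] at h2
    · rw [mem_centralizer_singleton_iff]
      have h2 := congrArg e.symm (mem_centralizer_singleton_iff.1 g.2)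
      rwa [map_mul, map_mul] at h2
  rw [h1]
  exact dvd_36

end Cfsg.Agent.H595.MTwelveWeak
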