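import Mathlib

/-!
# Groups of permutations of twelve points in which the stabilizer of five points is trivial (helper595)

* `card_le_of_five` : a centralizer of an element of prime order at least 5 has at most 12 elements;
* `card_le_of_fix` : a centralizer of an element of order three with a fixed point has at most 54 elements;
* `exists_psi` : if `w` is of order three and has no fixed point, there is `ψ : C(w) → Sym(4)` with kernel `⟨w⟩`, and no
  transposition in its range;
* `no_fix_of_four` : an element of order three commuting with a group of order 4 has no fixed point.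
-/

set_option autoImplicit false
set_option linter.unusedSectionVars false

namespace Cfsg.Agent.H595.TwelvePts

open Subgroup Equiv

/-- the stabilizer of five points is trivial -/
def Fix5 {G : Type*} [Group G] (φ : G →* Perm (Fin 12)) : Prop :=
  ∀ (g : G) (s : Finset (Fin 12)), 5 ≤ s.card → (∀ i ∈ s, φ g i = i) → g = 1

section

variable {G : Type*} [Group G] {φ : G →* Perm (Fin 12)}

/-- the first `q` points of the orbit -/
def orb (φ : G →* Perm (Fin 12)) (w : G) (q : ℕ) (p : Fin 12) : Finset (Fin 12) :=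
  (Finset.range q).image fun i => φ (w ^ i) p

theorem mem_orb {w : G} {q : ℕ} {p x : Fin 12} : x ∈ orb φ w q p ↔ ∃ i < q, φ (w ^ i) p = x := by
  simp [orb]

theorem pow_fix {w : G} {p : Fin 12} (h : φ w p = p) (i : ℕ) : φ (w ^ i) p = p := by
  induction i with
  | zero => rw [pow_zero, map_one, Perm.one_apply]
  | succ n ih => rw [pow_succ, map_mul, Perm.mul_apply, h, ih]

theorem fix_of_pow {w : G} {q : ℕ} (hq : q.Prime) (hw : w ^ q = 1) {p : Fin 12} {i : ℕ} (hi : 0 < i) (hiq : i < q)
    (h : φ (w ^ i) p = p) : φ w p = p := by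
  have hc : Nat.Coprime i q := (Nat.coprime_of_lt_prime hi.ne' hiq hq).symm
  obtain ⟨m, -, hm⟩ := Nat.exists_mul_mod_eq_one_of_coprime hc hq.one_lt
  have h1 : w ^ (i * m) = w := by
    have h2 : i * m = q * (i * m / q) + 1 := by
      rw [← hm]; exact (Nat.div_add_mod _ _).symm
    rw [h2, pow_add, pow_mul, hw, one_pow, one_mul, pow_one]
  have h3 := pow_fix (w := w ^ i) h m
  rwa [← pow_mul, h1] at h3

theorem card_orb {w : G} {q : ℕ} (hq : q.Prime) (hw : w ^ q = 1) {p : Fin 12} (hp : φ w p ≠ p) :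
    (orb φ w q p).card = q := by
  rw [orb, Finset.card_image_of_injOn, Finset.card_range]
  have key : ∀ i j : ℕ, i < j → j < q → φ (w ^ i) p = φ (w ^ j) p → False := by
    intro i j hij hj h
    apply hp
    refine fix_of_pow hq hw (i := j - i) (by omega) (by omega) ?_
    apply (φ (w ^ i)).injective
    rw [← Perm.mul_apply, ← map_mul, ← pow_add, show i + (j - i) = j by omega]
    exact h.symm
  intro i hi j hj h
  simp only [Finset.coe_range, Set.mem_Iio] at hi hj
  rcases lt_trichotomy i j with h1 | h1 | h1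
  · exact (key i j h1 hj h).elim
  · exact h1
  · exact (key j i h1 hi h.symm).elim

theorem fix_orb {w g : G} (hg : g * w = w * g) {q : ℕ} {p : Fin 12} (h : φ g p = p) :
    ∀ x ∈ orb φ w q p, φ g x = x := by
  intro x hx
  obtain ⟨i, -, rfl⟩ := mem_orb.1 hx
  have h1 : g * w ^ i = w ^ i * g := Commute.pow_right (show Commute g w from hg) i
  rw [← Perm.mul_apply, ← map_mul, h1, map_mul, Perm.mul_apply, h]

theorem exists_move (hφ : Fix5 φ) {w : G} (hw : w ≠ 1) : ∃ p, φ w p ≠ p := by
  by_contra h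
  push Not at h
  exact hw (hφ w Finset.univ (by simp) fun i _ => h i)

theorem comm_of_mem {w g : G} (h : g ∈ centralizer ({w} : Set G)) : g * w = w * g := mem_centralizer_singleton_iff.1 h

theorem fix_inv {a b : G} {p : Fin 12} (h : φ a p = φ b p) : φ (a⁻¹ * b) p = p := by
  rw [map_mul, Perm.mul_apply, ← h, ← Perm.mul_apply, ← map_mul, inv_mul_cancel, map_one, Perm.one_apply]

/-- prime order at least five -/
theorem card_le_of_five (hφ : Fix5 φ) {w : G} {q : ℕ} (hq : q.Prime) (h5 : 5 ≤ q) (hw : orderOf w = q) :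
    Nat.card (centralizer ({w} : Set G)) ≤ 12 := by
  have hw1 : w ≠ 1 := by
    rintro rfl
    rw [orderOf_one] at hw
    omega
  have hwq : w ^ q = 1 := by rw [← hw]; exact pow_orderOf_eq_one w
  obtain ⟨p, hp⟩ := exists_move hφ hw1
  have hinj : Function.Injective (fun g : centralizer ({w} : Set G) => φ (g : G) p) := by
    intro a b hab
    have h1 := fix_inv (φ := φ) (a := (a : G)) (b := (b : G)) hab
    have h2 : ((a : G)⁻¹ * b) * w = w * ((a : G)⁻¹ * b) := comm_of_mem (a⁻¹ * b).2
    have h3 := hφ _ (orb φ w q p) (by rw [card_orb hq hwq hp]; exact h5) (fix_orb h2 h1)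
    exact Subtype.ext (inv_mul_eq_one.1 h3)
  have := Nat.card_le_card_of_injective _ hinj
  simpa using this

/-- fixed points of an element of order three -/
theorem three_dvd {w : G} (hwq : w ^ 3 = 1) : 3 ∣ (Finset.univ.filter fun p => φ w p ≠ p).card := by
  classical
  have h : (φ w) ^ 3 = 1 := by rw [← map_pow, hwq, map_one]
  have h1 : (Finset.univ.filter fun p => φ w p ≠ p) = (φ w).support := by
    ext x
    simp [Perm.mem_support]
  rw [h1]
  by_cases hne : φ w = 1
  · rw [hne]
    simp
  · have h2 : orderOf (φ w) = 3 := orderOf_eq_prime h hne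
    rw [← Perm.sum_cycleType]
    apply Multiset.dvd_sum
    intro n hn
    have h3 : n ∣ 3 := by
      rw [← h2]
      exact Perm.dvd_of_mem_cycleType hn
    have h4 := Perm.two_le_of_mem_cycleType hn
    rcases (Nat.dvd_prime Nat.prime_three).1 h3 with h5 | h5
    · omega
    · rw [h5]

theorem card_fix (hφ : Fix5 φ) {w : G} (hw : w ≠ 1) (hwq : w ^ 3 = 1) {z : Fin 12} (hz : φ w z = z) :
    (Finset.univ.filter fun p => φ w p = p).card = 3 ∧ (Finset.univ.filter fun p => φ w p ≠ p).card = 9 := by
  have h1 := three_dvd (φ := φ) hwq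
  have h2 : (Finset.univ.filter fun p => φ w p = p).card + (Finset.univ.filter fun p => φ w p ≠ p).card = 12 := by
    have h3 := Finset.card_filter_add_card_filter_not (s := (Finset.univ : Finset (Fin 12))) (fun p => φ w p = p)
    simpa using h3
  have h3 : (Finset.univ.filter fun p => φ w p = p).card < 5 := by
    by_contra h
    push Not at h
    exact hw (hφ w _ h fun i hi => (Finset.mem_filter.1 hi).2)
  have h4 : 0 < (Finset.univ.filter fun p => φ w p = p).card :=
    Finset.card_pos.2 ⟨z, Finset.mem_filter.2 ⟨Finset.mem_univ _, hz⟩⟩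
  omega

theorem fix_conj {w g : G} (hg : g * w = w * g) {z : Fin 12} (hz : φ w z = z) : φ w (φ g z) = φ g z := by
  rw [← Perm.mul_apply, ← map_mul, ← hg, map_mul, Perm.mul_apply, hz]

theorem move_conj {w g : G} (hg : g * w = w * g) {z : Fin 12} (hz : φ w z ≠ z) : φ w (φ g z) ≠ φ g z := by
  intro h
  apply hz
  apply (φ g).injective
  rw [← h, ← Perm.mul_apply, ← Perm.mul_apply, ← map_mul, ← map_mul, hg]

/-- order three, three fixed points -/
theorem card_le_of_fix (hφ : Fix5 φ) {w : G} (hw : w ≠ 1) (hwq : w ^ 3 = 1) {z : Fin 12} (hz : φ w z = z) :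
    Nat.card (centralizer ({w} : Set G)) ≤ 54 := by
  classical
  obtain ⟨h3, h9⟩ := card_fix hφ hw hwq hz
  set F := Finset.univ.filter fun p => φ w p = p with hF
  set M := Finset.univ.filter fun p => φ w p ≠ p with hM
  obtain ⟨p, hp⟩ := exists_move hφ hw
  have hzF : z ∈ F := Finset.mem_filter.2 ⟨Finset.mem_univ _, hz⟩
  obtain ⟨y, hyF, hyz⟩ : ∃ y ∈ F, y ≠ z := Finset.exists_mem_ne (by omega) z
  have hy : φ w y = y := (Finset.mem_filter.1 hyF).2
  let T : Finset (Fin 12 × (Fin 12 × Fin 12)) := M ×ˢ F.offDiag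
  have hT : T.card = 54 := by
    rw [Finset.card_product, Finset.offDiag_card, h3, h9]
  let f : centralizer ({w} : Set G) → T := fun g => ⟨(φ (g : G) p, (φ (g : G) z, φ (g : G) y)), by
    have hg := comm_of_mem g.2
    rw [Finset.mem_product, Finset.mem_offDiag]
    refine ⟨Finset.mem_filter.2 ⟨Finset.mem_univ _, move_conj hg hp⟩, Finset.mem_filter.2 ⟨Finset.mem_univ _, fix_conj hg hz⟩,
      Finset.mem_filter.2 ⟨Finset.mem_univ _, fix_conj hg hy⟩, ?_⟩
    intro h
    exact hyz ((φ (g : G)).injective h).symm⟩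
  have hinj : Function.Injective f := by
    intro a b hab
    have h0 := congrArg Subtype.val hab
    have h1 : φ (a : G) p = φ (b : G) p := congrArg Prod.fst h0
    have h2 : φ (a : G) z = φ (b : G) z := congrArg (fun t => t.2.1) h0
    have h4 : φ (a : G) y = φ (b : G) y := congrArg (fun t => t.2.2) h0
    have hc : ((a : G)⁻¹ * b) * w = w * ((a : G)⁻¹ * b) := comm_of_mem (a⁻¹ * b).2
    have hzo : z ∉ orb φ w 3 p := by
      intro h
      obtain ⟨i, -, hi⟩ := mem_orb.1 h
      apply hp
      rw [← hi] at hz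
      apply (φ (w ^ i)).injective
      rw [← Perm.mul_apply, ← map_mul, ← pow_succ, pow_succ', map_mul, Perm.mul_apply]
      exact hz
    have hyo : y ∉ orb φ w 3 p := by
      intro h
      obtain ⟨i, -, hi⟩ := mem_orb.1 h
      apply hp
      rw [← hi] at hy
      apply (φ (w ^ i)).injective
      rw [← Perm.mul_apply, ← map_mul, ← pow_succ, pow_succ', map_mul, Perm.mul_apply]
      exact hy
    have h5 := hφ _ (insert y (insert z (orb φ w 3 p))) (by
      rw [Finset.card_insert_of_notMem, Finset.card_insert_of_notMem hzo, card_orb Nat.prime_three hwq hp]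
      rw [Finset.mem_insert]
      rintro (h | h)
      · exact hyz h
      · exact hyo h) (by
      intro i hi
      rw [Finset.mem_insert, Finset.mem_insert] at hi
      rcases hi with rfl | rfl | hi
      · exact fix_inv h4
      · exact fix_inv h2
      · exact fix_orb hc (fix_inv h1) i hi)
    exact Subtype.ext (inv_mul_eq_one.1 h5)
  have := Nat.card_le_card_of_injective f hinj
  rw [Nat.card_eq_fintype_card (α := T), Fintype.card_coe, hT] at this
  exact this

/-- an element of order three with a fixed point does not commute with a group of order four -/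
theorem no_fix_of_four (hφ : Fix5 φ) {w : G} (hw : w ≠ 1) (hwq : w ^ 3 = 1) {S : Subgroup G} (hS : Nat.card S = 4)
    (hSw : S ≤ centralizer ({w} : Set G)) (z : Fin 12) : φ w z ≠ z := by
  classical
  intro hz
  obtain ⟨h3, h9⟩ := card_fix hφ hw hwq hz
  have h2 : Fact (Nat.Prime 2) := ⟨Nat.prime_two⟩
  have hSfin : Finite S := Nat.finite_of_card_ne_zero (by rw [hS]; norm_num)
  have hSp : IsPGroup 2 S := IsPGroup.of_card (n := 2) (by rw [hS]; norm_num)
  have key : ∀ (T : Finset (Fin 12)), (∀ g ∈ S, ∀ x ∈ T, φ g x ∈ T) → ¬ 2 ∣ T.card → ∃ p ∈ T, ∀ g ∈ S, φ g p = p := by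
    intro T hT hodd
    let act : MulAction S T :=
      { smul := fun g x => ⟨φ (g : G) x, hT g g.2 x x.2⟩
        one_smul := fun x => Subtype.ext (by
          change φ ((1 : S) : G) x = x
          rw [Subgroup.coe_one, map_one, Perm.one_apply])
        mul_smul := fun g h x => Subtype.ext (by
          change φ ((g * h : S) : G) x = φ (g : G) (φ (h : G) x)
          rw [Subgroup.coe_mul, map_mul, Perm.mul_apply]) }
    have h4 := hSp.nonempty_fixed_point_of_prime_not_dvd_card T (by
      rw [Nat.card_eq_fintype_card, Fintype.card_coe]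
      exact hodd)
    obtain ⟨x, hx⟩ := h4
    refine ⟨x, x.2, fun g hg => ?_⟩
    exact congrArg Subtype.val (hx ⟨g, hg⟩)
  set F := Finset.univ.filter fun p => φ w p = p with hF
  set M := Finset.univ.filter fun p => φ w p ≠ p with hM
  obtain ⟨p, hpM, hpS⟩ := key M (fun g hg x hx => Finset.mem_filter.2 ⟨Finset.mem_univ _,
    move_conj (comm_of_mem (hSw hg)) (Finset.mem_filter.1 hx).2⟩) (by rw [h9]; norm_num)
  obtain ⟨f, hfF, hfS⟩ := key F (fun g hg x hx => Finset.mem_filter.2 ⟨Finset.mem_univ _,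
    fix_conj (comm_of_mem (hSw hg)) (Finset.mem_filter.1 hx).2⟩) (by rw [h3]; norm_num)
  have hp : φ w p ≠ p := (Finset.mem_filter.1 hpM).2
  have hf : φ w f = f := (Finset.mem_filter.1 hfF).2
  obtain ⟨y, hyF, hyf⟩ : ∃ y ∈ F, y ≠ f := Finset.exists_mem_ne (by omega) f
  have hy : φ w y = y := (Finset.mem_filter.1 hyF).2
  have hno : ∀ z : Fin 12, φ w z = z → z ∉ orb φ w 3 p := by
    intro z hz h
    obtain ⟨i, -, hi⟩ := mem_orb.1 h
    apply hp
    rw [← hi] at hz
    apply (φ (w ^ i)).injective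
    rw [← Perm.mul_apply, ← map_mul, ← pow_succ, pow_succ', map_mul, Perm.mul_apply]
    exact hz
  let ff : S → F := fun g => ⟨φ (g : G) y, Finset.mem_filter.2 ⟨Finset.mem_univ _, fix_conj (comm_of_mem (hSw g.2)) hy⟩⟩
  have hinj : Function.Injective ff := by
    intro a b hab
    have h1 : φ (a : G) y = φ (b : G) y := congrArg Subtype.val hab
    have h2 := fix_inv h1
    have hc : ((a : G)⁻¹ * b) * w = w * ((a : G)⁻¹ * b) := comm_of_mem (hSw (a⁻¹ * b).2)
    have h5 := hφ _ (insert y (insert f (orb φ w 3 p))) (by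
      rw [Finset.card_insert_of_notMem, Finset.card_insert_of_notMem (hno f hf), card_orb Nat.prime_three hwq hp]
      rw [Finset.mem_insert]
      rintro (h | h)
      · exact hyf h
      · exact hno y hy h) (by
      intro i hi
      rw [Finset.mem_insert, Finset.mem_insert] at hi
      rcases hi with rfl | rfl | hi
      · exact h2
      · exact hfS _ (a⁻¹ * b).2
      · exact fix_orb hc (hpS _ (a⁻¹ * b).2) i hi)
    exact Subtype.ext (inv_mul_eq_one.1 h5)
  have := Nat.card_le_card_of_injective ff hinj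
  rw [hS, Nat.card_eq_fintype_card (α := F), Fintype.card_coe, h3] at this
  omega

/-! ### order three without fixed points -/

/-- the orbits of `w` -/
def rel (φ : G →* Perm (Fin 12)) (w : G) : Setoid (Fin 12) where
  r p q := ∃ i : ℤ, φ (w ^ i) p = q
  iseqv := {
    refl := fun p => ⟨0, by rw [zpow_zero, map_one, Perm.one_apply]⟩
    symm := by
      rintro p q ⟨i, rfl⟩
      refine ⟨-i, ?_⟩
      rw [← Perm.mul_apply, ← map_mul, ← zpow_add, neg_add_cancel, zpow_zero, map_one, Perm.one_apply]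
    trans := by
      rintro p q r ⟨i, rfl⟩ ⟨j, rfl⟩
      refine ⟨j + i, ?_⟩
      rw [zpow_add, map_mul, Perm.mul_apply] }

theorem exists_pow {w : G} (hwq : w ^ 3 = 1) (i : ℤ) : ∃ k < 3, w ^ i = w ^ k := by
  refine ⟨(i % 3).toNat, ?_, ?_⟩
  · omega
  · have h1 : w ^ i = w ^ (i % 3) := by
      conv_lhs => rw [← Int.mul_ediv_add_emod i 3]
      rw [zpow_add, zpow_mul]
      have : w ^ (3 : ℤ) = 1 := by exact_mod_cast hwq
      rw [this, one_zpow, one_mul]
    rw [h1, ← zpow_natCast, Int.toNat_of_nonneg (by omega)]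

theorem mem_rel {w : G} (hwq : w ^ 3 = 1) {p q : Fin 12} : (rel φ w).r p q ↔ q ∈ orb φ w 3 p := by
  rw [mem_orb]
  constructor
  · rintro ⟨i, rfl⟩
    obtain ⟨k, hk, h⟩ := exists_pow hwq i
    exact ⟨k, hk, by rw [h]⟩
  · rintro ⟨i, -, rfl⟩
    exact ⟨i, by rw [zpow_natCast]⟩

/-- the orbits -/
abbrev Om (φ : G →* Perm (Fin 12)) (w : G) : Type := Quotient (rel φ w)

open Classical in
noncomputable instance (w : G) : Fintype (Om φ w) := Fintype.ofFinite _

theorem card_Om {w : G} (hwq : w ^ 3 = 1) (hno : ∀ z, φ w z ≠ z) : Fintype.card (Om φ w) = 4 := by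
  classical
  have h1 := Finset.card_eq_sum_card_fiberwise (s := (Finset.univ : Finset (Fin 12)))
    (t := (Finset.univ : Finset (Om φ w))) (f := fun p => (Quotient.mk (rel φ w) p)) (fun _ _ => Finset.mem_coe.2 (Finset.mem_univ _))
  have h2 : ∀ ω ∈ (Finset.univ : Finset (Om φ w)),
      (Finset.univ.filter fun p => (Quotient.mk (rel φ w) p) = ω).card = 3 := by
    intro ω _
    obtain ⟨p, rfl⟩ := Quotient.exists_rep ω
    have h3 : (Finset.univ.filter fun q => (Quotient.mk (rel φ w) q) = Quotient.mk (rel φ w) p) = orb φ w 3 p := by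
      ext q
      rw [Finset.mem_filter]
      constructor
      · rintro ⟨-, h⟩
        exact (mem_rel hwq).1 (Quotient.exact h.symm)
      · intro h
        exact ⟨Finset.mem_univ _, (Quotient.sound ((mem_rel hwq).2 h : (rel φ w).r p q)).symm⟩
    rw [h3]
    exact card_orb Nat.prime_three hwq (hno p)
  rw [Finset.sum_congr rfl h2, Finset.card_univ, Fintype.card_fin, Finset.sum_const, Finset.card_univ, smul_eq_mul] at h1
  omega

/-- the action of the centralizer on the orbits -/
def aOm (φ : G →* Perm (Fin 12)) (w : G) (g : centralizer ({w} : Set G)) : Om φ w → Om φ w :=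
  Quotient.map' (fun p => φ (g : G) p) (by
    rintro p q ⟨i, rfl⟩
    refine ⟨i, ?_⟩
    have hc : (g : G) * w ^ i = w ^ i * g := Commute.zpow_right (show Commute (g : G) w from comm_of_mem g.2) i
    rw [← Perm.mul_apply, ← map_mul, ← hc, map_mul, Perm.mul_apply])

theorem aOm_mk (w : G) (g : centralizer ({w} : Set G)) (p : Fin 12) :
    aOm φ w g (Quotient.mk (rel φ w) p) = Quotient.mk (rel φ w) (φ (g : G) p) := rfl

theorem aOm_mul (w : G) (g h : centralizer ({w} : Set G)) (x : Om φ w) : aOm φ w (g * h) x = aOm φ w g (aOm φ w h x) := by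
  obtain ⟨p, rfl⟩ := Quotient.exists_rep x
  rw [aOm_mk, aOm_mk, aOm_mk, Subgroup.coe_mul, map_mul, Perm.mul_apply]

theorem aOm_one (w : G) (x : Om φ w) : aOm φ w 1 x = x := by
  obtain ⟨p, rfl⟩ := Quotient.exists_rep x
  rw [aOm_mk, Subgroup.coe_one, map_one, Perm.one_apply]

/-- the homomorphism -/
def psi (φ : G →* Perm (Fin 12)) (w : G) : centralizer ({w} : Set G) →* Perm (Om φ w) where
  toFun g :=
    { toFun := aOm φ w g
      invFun := aOm φ w g⁻¹
      left_inv := fun x => by rw [← aOm_mul, inv_mul_cancel, aOm_one]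
      right_inv := fun x => by rw [← aOm_mul, mul_inv_cancel, aOm_one] }
  map_one' := by
    ext x
    exact aOm_one w x
  map_mul' g h := by
    ext x
    exact aOm_mul w g h x

theorem psi_mk (w : G) (g : centralizer ({w} : Set G)) (p : Fin 12) :
    psi φ w g (Quotient.mk (rel φ w) p) = Quotient.mk (rel φ w) (φ (g : G) p) := rfl

/-- fixing a point in two orbits -/
theorem eq_one_of_two (hφ : Fix5 φ) {w : G} (hwq : w ^ 3 = 1) (hno : ∀ z, φ w z ≠ z) {g : G}
    (hg : g * w = w * g) {p q : Fin 12} (hpq : Quotient.mk (rel φ w) p ≠ Quotient.mk (rel φ w) q) (hp : φ g p = p)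
    (hq : φ g q = q) : g = 1 := by
  classical
  have hd : Disjoint (orb φ w 3 p) (orb φ w 3 q) := by
    rw [Finset.disjoint_left]
    intro x hx hx'
    apply hpq
    have h1 : Quotient.mk (rel φ w) p = Quotient.mk (rel φ w) x := Quotient.sound ((mem_rel hwq).2 hx)
    have h2 : Quotient.mk (rel φ w) q = Quotient.mk (rel φ w) x := Quotient.sound ((mem_rel hwq).2 hx')
    rw [h1, h2]
  refine hφ g (orb φ w 3 p ∪ orb φ w 3 q) ?_ ?_
  · rw [Finset.card_union_of_disjoint hd, card_orb Nat.prime_three hwq (hno p), card_orb Nat.prime_three hwq (hno q)]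
    norm_num
  · intro i hi
    rcases Finset.mem_union.1 hi with h | h
    · exact fix_orb hg hp i h
    · exact fix_orb hg hq i h

theorem psi_ker (hφ : Fix5 φ) {w : G} (hwq : w ^ 3 = 1) (hno : ∀ z, φ w z ≠ z) {g : centralizer ({w} : Set G)}
    (hg : psi φ w g = 1) : (g : G) ∈ zpowers w := by
  classical
  have h1 : ∀ ω : Om φ w, ∃ k : Fin 3, φ (g : G) ω.out = φ (w ^ k.1) ω.out := by
    intro ω
    have h2 : psi φ w g (Quotient.mk (rel φ w) ω.out) = Quotient.mk (rel φ w) ω.out := by
      rw [hg, Perm.one_apply]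
    rw [psi_mk] at h2
    obtain ⟨k, hk, h⟩ := mem_orb.1 ((mem_rel hwq).1 (Quotient.exact h2.symm))
    exact ⟨⟨k, hk⟩, h.symm⟩
  choose e he using h1
  obtain ⟨ω₁, ω₂, hne, hee⟩ := Fintype.exists_ne_map_eq_of_card_lt e (by
    rw [card_Om hwq hno, Fintype.card_fin]
    norm_num)
  have hc := comm_of_mem g.2
  have h3 : (w ^ (e ω₁).1)⁻¹ * (g : G) = 1 := by
    refine eq_one_of_two hφ hwq hno (p := ω₁.out) (q := ω₂.out) ?_ ?_ (fix_inv (he ω₁).symm) ?_
    · have h5 : Commute (w ^ (e ω₁).1)⁻¹ w := ((Commute.refl w).pow_left _).inv_left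
      exact (h5.mul_left (show Commute (g : G) w from hc)).eq
    · rw [Quotient.out_eq, Quotient.out_eq]
      exact hne
    · rw [hee]
      exact fix_inv (he ω₂).symm
  rw [inv_mul_eq_one] at h3
  rw [← h3]
  exact pow_mem (mem_zpowers w) _

theorem psi_w {w : G} {g : centralizer ({w} : Set G)} (h : (g : G) ∈ zpowers w) : psi φ w g = 1 := by
  ext x
  obtain ⟨p, rfl⟩ := Quotient.exists_rep x
  rw [psi_mk, Perm.one_apply]
  obtain ⟨i, hi⟩ := h
  refine (Quotient.sound ?_).symm
  exact ⟨i, by rw [← hi]⟩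

/-- an involution commuting with `w` fixes the points of the orbits it leaves invariant -/
theorem inv_fix {w : G} (hwq : w ^ 3 = 1) (hno : ∀ z, φ w z ≠ z) {g : centralizer ({w} : Set G)}
    (hg2 : (g : G) * g = 1) {p : Fin 12} (h : psi φ w g (Quotient.mk (rel φ w) p) = Quotient.mk (rel φ w) p) :
    φ (g : G) p = p := by
  rw [psi_mk] at h
  obtain ⟨k, hk, h1⟩ := mem_orb.1 ((mem_rel hwq).1 (Quotient.exact h.symm))
  have hc : (g : G) * w ^ k = w ^ k * g := Commute.pow_right (show Commute (g : G) w from comm_of_mem g.2) k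
  have h2 : φ (w ^ (2 * k)) p = p := by
    have h3 : φ ((g : G) * g) p = p := by rw [hg2, map_one, Perm.one_apply]
    rw [map_mul, Perm.mul_apply, ← h1, ← Perm.mul_apply, ← map_mul, hc, map_mul, Perm.mul_apply, ← h1,
      ← Perm.mul_apply, ← map_mul, ← pow_add, ← two_mul] at h3
    exact h3
  have h4 : k = 0 := by
    by_contra hk0
    apply hno p
    have h5 : k = 1 ∨ k = 2 := by omega
    rcases h5 with rfl | rfl
    · exact fix_of_pow Nat.prime_three hwq (i := 2) (by norm_num) (by norm_num) h2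
    · have h6 : w ^ (2 * 2) = w := by
        rw [show 2 * 2 = 3 + 1 by norm_num, pow_add, hwq, one_mul, pow_one]
      rwa [h6] at h2
  rw [← h1, h4, pow_zero, map_one, Perm.one_apply]

/-- no transposition -/
theorem psi_ne_swap (hφ : Fix5 φ) {w : G} (hwq : w ^ 3 = 1) (hno : ∀ z, φ w z ≠ z) (g : centralizer ({w} : Set G))
    [DecidableEq (Om φ w)] {a b : Om φ w} (hab : a ≠ b) : psi φ w g ≠ Equiv.swap a b := by
  classical
  intro h
  have h1 : psi φ w (g * g) = 1 := by
    rw [map_mul, h, Equiv.swap_mul_self]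
  obtain ⟨i, hi⟩ := psi_ker hφ hwq hno h1
  set k := g * g * g with hk
  have hk2 : (k : G) * k = 1 := by
    have h2 : ((g : G) * g) ^ 3 = 1 := by
      have h3 : ((g : G) * g) = w ^ i := hi.symm
      rw [h3, ← zpow_natCast, ← zpow_mul, mul_comm, zpow_mul, zpow_natCast, hwq, one_zpow]
    have h3 : (k : G) * k = ((g : G) * g) ^ 3 := by
      rw [hk]
      simp only [Subgroup.coe_mul, pow_succ, pow_zero, one_mul, mul_assoc]
    rw [h3, h2]
  have hpk : psi φ w k = Equiv.swap a b := by
    rw [hk, map_mul, h1, one_mul, h]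
  -- two further orbits
  obtain ⟨c, d, hcd, hca, hcb, hda, hdb⟩ : ∃ c d : Om φ w, c ≠ d ∧ c ≠ a ∧ c ≠ b ∧ d ≠ a ∧ d ≠ b := by
    have h2 : 2 ≤ (Finset.univ \ {a, b} : Finset (Om φ w)).card := by
      have h3 := Finset.le_card_sdiff {a, b} (Finset.univ : Finset (Om φ w))
      rw [Finset.card_univ, card_Om hwq hno] at h3
      have h4 := Finset.card_le_two (a := a) (b := b)
      omega
    obtain ⟨c, hc, d, hd, hcd⟩ := Finset.one_lt_card.1 (show 1 < (Finset.univ \ {a, b} : Finset (Om φ w)).card by omega)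
    rw [Finset.mem_sdiff, Finset.mem_insert, Finset.mem_singleton, not_or] at hc hd
    exact ⟨c, d, hcd, hc.2.1, hc.2.2, hd.2.1, hd.2.2⟩
  have hfix : ∀ x : Om φ w, x ≠ a → x ≠ b → φ (k : G) x.out = x.out := by
    intro x hxa hxb
    apply inv_fix hwq hno hk2
    rw [hpk]
    rw [Quotient.out_eq]
    exact Equiv.swap_apply_of_ne_of_ne hxa hxb
  have h5 : (k : G) = 1 := by
    refine eq_one_of_two hφ hwq hno (comm_of_mem k.2) (p := c.out) (q := d.out) ?_ (hfix c hca hcb) (hfix d hda hdb)
    rw [Quotient.out_eq, Quotient.out_eq]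
    exact hcd
  have h6 : k = 1 := Subtype.ext h5
  rw [h6, map_one] at hpk
  exact hab (Equiv.swap_eq_one_iff.1 hpk.symm)

/-- **the homomorphism to the symmetric group of degree four** -/
theorem exists_psi (hφ : Fix5 φ) {w : G} (hwq : w ^ 3 = 1) (hno : ∀ z, φ w z ≠ z) :
    ∃ ψ : centralizer ({w} : Set G) →* Perm (Fin 4), (∀ g, ψ g = 1 ↔ (g : G) ∈ zpowers w) ∧
      ∀ g, ψ g ≠ Equiv.swap 0 1 := by
  classical
  have e : Om φ w ≃ Fin 4 := Fintype.equivFinOfCardEq (card_Om hwq hno)
  let E : Perm (Om φ w) ≃* Perm (Fin 4) := e.permCongrHom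
  refine ⟨E.toMonoidHom.comp (psi φ w), fun g => ?_, fun g => ?_⟩
  · rw [MonoidHom.comp_apply]
    change E (psi φ w g) = 1 ↔ _
    rw [map_eq_one_iff E E.injective]
    exact ⟨psi_ker hφ hwq hno, psi_w⟩
  · rw [MonoidHom.comp_apply]
    change E (psi φ w g) ≠ _
    intro h
    apply psi_ne_swap hφ hwq hno g (a := e.symm 0) (b := e.symm 1) (by
      intro h1
      exact absurd (e.symm.injective h1) (by decide))
    apply E.injective
    rw [h]
    change _ = e.permCongr (Equiv.swap (e.symm 0) (e.symm 1))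
    rw [Equiv.permCongr_def, Equiv.swap_comm]
    ext x
    simp [Equiv.swap_apply_def]
    split_ifs <;> simp_all

end

end Cfsg.Agent.H595.TwelvePts
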